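import Mathlib
import Groth.Agent.FlatDescent.PdFibre

/-! Finite free resolutions of flat finitely presented modules over flat finitely presented algebras. -/

namespace Groth.Agent.FlatResolution

open CategoryTheory CategoryTheory.Limits

universe u

variable (A : Type u) {B : Type u} [CommRing A] [CommRing B] [Algebra A B]

/-- Finitely presented over `B` and flat over `A`. -/
def Good (K : ModuleCat.{u} B) : Prop :=
  Module.FinitePresentation B K ∧
    @Module.Flat A K _ _ (Module.compHom K (algebraMap A B))

lemma flat_compHom (N : Type u) [AddCommGroup N] [Module B N] [inst : Module A N]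
    [IsScalarTower A B N] [h : Module.Flat A N] :
    @Module.Flat A N _ _ (Module.compHom N (algebraMap A B)) := by
  have e : Module.compHom N (algebraMap A B) = inst :=
    Module.ext' _ _ fun a x => algebraMap_smul B a x
  rw [e]; exact h

lemma step [Algebra.FinitePresentation A B] [Module.Flat A B] (K : {K : ModuleCat.{u} B // Good A K}) :
    ∃ (m : ℕ) (p : (Fin m → B) →ₗ[B] K.1), Function.Surjective p ∧
      Good A (ModuleCat.of B (LinearMap.ker p)) := by
  letI := Module.compHom K.1 (algebraMap A B)
  haveI : IsScalarTower A B K.1 := IsScalarTower.of_algebraMap_smul fun _ _ => rfl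
  haveI := K.2.1
  haveI := K.2.2
  obtain ⟨m, p, hp, h1, h2⟩ := Groth.FlatDescent.exists_step (A := A) (B := B) K.1
  haveI := h2
  exact ⟨m, p, hp, h1, flat_compHom A (B := B) (LinearMap.ker p)⟩

variable [Algebra.FinitePresentation A B] [Module.Flat A B]

/-- Rank of the chosen free module. -/
noncomputable def rk (K : {K : ModuleCat.{u} B // Good A K}) : ℕ := (step A K).choose

/-- The chosen cover. -/
noncomputable def cover (K : {K : ModuleCat.{u} B // Good A K}) : (Fin (rk A K) → B) →ₗ[B] K.1 :=
  (step A K).choose_spec.choose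

lemma cover_surjective (K : {K : ModuleCat.{u} B // Good A K}) : Function.Surjective (cover A K) :=
  (step A K).choose_spec.choose_spec.1

/-- The syzygies. -/
noncomputable def syz (K : {K : ModuleCat.{u} B // Good A K}) :
    ℕ → {K : ModuleCat.{u} B // Good A K}
  | 0 => K
  | n + 1 => ⟨ModuleCat.of B (LinearMap.ker (cover A (syz K n))),
      (step A (syz K n)).choose_spec.choose_spec.2⟩

variable (K : {K : ModuleCat.{u} B // Good A K})

/-- The terms. -/
noncomputable abbrev F (n : ℕ) : ModuleCat.{u} B := ModuleCat.of B (Fin (rk A (syz A K n)) → B)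

/-- The differential. -/
noncomputable def dLin (n : ℕ) :
    (Fin (rk A (syz A K (n + 1))) → B) →ₗ[B] (Fin (rk A (syz A K n)) → B) :=
  (LinearMap.ker (cover A (syz A K n))).subtype ∘ₗ cover A (syz A K (n + 1))

lemma range_dLin (n : ℕ) : LinearMap.range (dLin A K n) = LinearMap.ker (cover A (syz A K n)) := by
  apply le_antisymm
  · rintro _ ⟨x, rfl⟩
    exact (cover A (syz A K (n + 1)) x).2
  · intro x hx
    obtain ⟨y, hy⟩ := cover_surjective A (syz A K (n + 1)) ⟨x, hx⟩
    exact ⟨y, congrArg Subtype.val hy⟩

lemma ker_dLin (n : ℕ) : LinearMap.ker (dLin A K n) = LinearMap.ker (cover A (syz A K (n + 1))) :=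
  LinearMap.ker_comp_of_ker_eq_bot _ (Submodule.ker_subtype _)

lemma d_comp_d (n : ℕ) : ModuleCat.ofHom (dLin A K (n + 1)) ≫ ModuleCat.ofHom (dLin A K n) = 0 := by
  ext1
  refine LinearMap.ext fun x => ?_
  show dLin A K n (dLin A K (n + 1) x) = 0
  rw [← LinearMap.mem_ker, ker_dLin, ← range_dLin]
  exact ⟨x, rfl⟩

/-- The complex. -/
noncomputable def cx : ChainComplex (ModuleCat.{u} B) ℕ :=
  ChainComplex.of (F A K) (fun n => ModuleCat.ofHom (dLin A K n)) (d_comp_d A K)

lemma cx_d (n : ℕ) : (cx A K).d (n + 1) n = ModuleCat.ofHom (dLin A K n) := by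
  simp [cx]

theorem exists_resolution (M : Type u) [AddCommGroup M] [Module B M] [Module A M] [IsScalarTower A B M]
    [Module.FinitePresentation B M] [Module.Flat A M] :
    ∃ P : ProjectiveResolution (ModuleCat.of B M),
      ∀ n : ℕ, Module.Finite B (P.complex.X n) ∧ Module.Free B (P.complex.X n) := by
  let K : {K : ModuleCat.{u} B // Good A K} :=
    ⟨ModuleCat.of B M, ‹Module.FinitePresentation B M›, flat_compHom A (B := B) M⟩
  let φ : (cx A K).X 0 ⟶ ModuleCat.of B M := ModuleCat.ofHom (cover A (syz A K 0))
  have hφ0 : (cx A K).d 1 0 ≫ φ = 0 := by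
    rw [show (cx A K).d 1 0 = _ from cx_d A K 0]
    ext1
    refine LinearMap.ext fun x => ?_
    exact (range_dLin A K 0).le ⟨x, rfl⟩
  haveI hφ : Epi φ := (ModuleCat.epi_iff_surjective _).2 (cover_surjective A (syz A K 0))
  have ex : (ShortComplex.mk ((cx A K).d 1 0) φ hφ0).Exact := by
    rw [ShortComplex.moduleCat_exact_iff_range_eq_ker]
    show LinearMap.range ((cx A K).d 1 0).hom = LinearMap.ker φ.hom
    rw [show (cx A K).d 1 0 = _ from cx_d A K 0]
    exact range_dLin A K 0
  have hex : ∀ j : ℕ, (cx A K).ExactAt (j + 1) := fun j => by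
    rw [HomologicalComplex.exactAt_iff' _ (j + 1 + 1) (j + 1) j (by simp) (by simp),
      ShortComplex.moduleCat_exact_iff_range_eq_ker]
    show LinearMap.range ((cx A K).d (j + 1 + 1) (j + 1)).hom = LinearMap.ker ((cx A K).d (j + 1) j).hom
    rw [cx_d, cx_d]
    exact (range_dLin A K (j + 1)).trans (ker_dLin A K j).symm
  let π : cx A K ⟶ (ChainComplex.single₀ _).obj (ModuleCat.of B M) :=
    (ChainComplex.toSingle₀Equiv _ _).symm ⟨φ, hφ0⟩
  have hπ : QuasiIso π := ⟨fun n => by
    cases n
    · rw [ChainComplex.quasiIsoAt₀_iff, ShortComplex.quasiIso_iff_of_zeros']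
      · refine (ShortComplex.exact_and_epi_g_iff_of_iso ?_).2 ⟨ex, hφ⟩
        exact ShortComplex.isoMk (Iso.refl _) (Iso.refl _) (Iso.refl _)
          ((Category.id_comp _).trans (Category.comp_id _).symm) (by simp [π]; rfl)
      all_goals first | rfl | exact (cx A K).shape _ _ (by simp)
    · rw [quasiIsoAt_iff_exactAt']
      · exact hex _
      · exact ChainComplex.exactAt_succ_single_obj _ _⟩
  refine ⟨{ complex := cx A K
            projective := fun n => ?_
            π := π
            quasiIso := hπ }, fun n => ⟨?_, ?_⟩⟩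
  · exact (IsProjective.iff_projective _).1 (inferInstanceAs (Module.Projective B (Fin (rk A (syz A K n)) → B)))
  · exact inferInstanceAs (Module.Finite B (Fin (rk A (syz A K n)) → B))
  · exact inferInstanceAs (Module.Free B (Fin (rk A (syz A K n)) → B))

end Groth.Agent.FlatResolution
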